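import Groth.Agent.Fga.RelCart
import Groth.Agent.CurvesB.DimOneEtale
import Groth.Agent.S1617
import Groth.Agent.S0558
import Mathlib.RingTheory.DiscreteValuationRing.TFAE
import Mathlib.RingTheory.RegularLocalRing.Defs
import Mathlib.AlgebraicGeometry.Properties
import Mathlib.AlgebraicGeometry.Morphisms.QuasiFinite

/-!
# Finite subschemes of regular curves are effective Cartier divisors (S15952, node E1)
-/

set_option autoImplicit false

universe u

open CategoryTheory CategoryTheory.Limits AlgebraicGeometry TopologicalSpace

namespace K888.EffFin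

open Groth.Agent Fga.RelCart Fga.RelCartAlg Divis.CartierBasic Divis.CartierStalk

theorem discrete_of_isFinite {K : Type u} [Field K] {W : Scheme.{u}} (c : W ⟶ Spec (CommRingCat.of K)) [IsFinite c] :
    DiscreteTopology W := by
  let s : ↥(Spec (CommRingCat.of K)) := (⊥ : PrimeSpectrum K)
  have h1 : _root_.IsDiscrete (c ⁻¹' {s}) := c.isDiscrete_preimage_singleton s
  have h2 : c ⁻¹' {s} = Set.univ := by
    ext x
    simp only [Set.mem_preimage, Set.mem_univ, iff_true]
    exact Subsingleton.elim (α := PrimeSpectrum K) _ _
  rw [h2] at h1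
  exact isDiscrete_univ_iff.1 h1

/-- A Jacobson scheme whose irreducible components all have dimension one has local dimension one at every point. -/
theorem localDim_eq_one {F : Scheme.{u}} [JacobsonSpace F]
    (hF : ∀ Z ∈ irreducibleComponents (F : Type u), topologicalKrullDim Z = 1) (y : F) :
    FlatMor.localDim F y = 1 := by
  apply le_antisymm
  · refine (VarietyB.DimTop.localDim_le_dim y).trans ?_
    rw [VarietyB.DimTop.topologicalKrullDim_eq_iSup_irreducibleComponents]
    exact iSup_le fun Z => (hF Z.1 Z.2).le
  · refine VarietyB.DimTop.le_localDim fun U hU => ?_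
    let U' : F.Opens := U
    have h1 : ∀ Z ∈ irreducibleComponents (U' : Type u), topologicalKrullDim Z = 1 :=
      CurvesB.DimOneEtale.forall_dim_eq_one_of_etale U'.ι hF
    have h2 := h1 _ (irreducibleComponent_mem_irreducibleComponents (⟨y, hU⟩ : U'))
    rw [← h2]
    exact topologicalKrullDim_subspace_le _ _

theorem ringKrullDim_stalk_of_discrete (Z : Scheme.{u}) [DiscreteTopology Z] (z : Z) :
    ringKrullDim (Z.presheaf.stalk z) = 0 := by
  rw [ringKrullDim_stalk_eq_coheight]
  have : Order.coheight z = 0 := by
    rw [Order.coheight_eq_zero]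
    intro y hy
    have h1 : y ⤳ z := hy
    have h2 : y = z := h1.eq
    rw [h2]
  rw [this]
  rfl

/-- (E1) -/
theorem eff_of_isFinite {F : Type u} [Field F] {X : Scheme.{u}} (f : X ⟶ Spec (CommRingCat.of F)) [LocallyOfFiniteType f]
    (hreg : ∀ x : X, IsRegularLocalRing (X.presheaf.stalk x))
    (hdim : ∀ W ∈ irreducibleComponents (X : Type u), topologicalKrullDim W = 1)
    (I : X.IdealSheafData) [IsFinite (I.subschemeι ≫ f)] (x : X) : Fga.RelCart.Eff I x := by
  by_cases hx : x ∈ I.support
  · obtain ⟨d, rfl⟩ := exists_subscheme_apply_eq I hx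
    have hZ : DiscreteTopology I.subscheme := discrete_of_isFinite (I.subschemeι ≫ f)
    have hcl : IsClosed ({I.subschemeι d} : Set X) := by
      have := (I.subschemeι.isClosedEmbedding).isClosedMap {d} (isClosed_discrete _)
      rwa [Set.image_singleton] at this
    have hJ : JacobsonSpace X := LocallyOfFiniteType.jacobsonSpace f
    have h1 : ringKrullDim (X.presheaf.stalk (I.subschemeι d)) = 1 := by
      let : X.Over (Spec (CommRingCat.of F)) := ⟨f⟩
      have : LocallyOfFiniteType (X ↘ (Spec (CommRingCat.of F))) := ‹LocallyOfFiniteType f›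
      rw [← S1617.result F X _ hcl, localDim_eq_one hdim]
    have h2 := hreg (I.subschemeι d)
    have hdom : IsDomain (X.presheaf.stalk (I.subschemeι d)) := S0558.result _
    have hdvr : IsDiscreteValuationRing (X.presheaf.stalk (I.subschemeι d)) := by
      rw [← IsLocalRing.finrank_CotangentSpace_eq_one_iff]
      have h3 := (IsRegularLocalRing.iff_finrank_cotangentSpace _).mp h2
      rw [h1] at h3
      exact_mod_cast h3
    have hprin := IsPrincipalIdealRing.principal (stalkIdeal I (I.subschemeι d))
    obtain ⟨g, hg⟩ := hprin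
    refine ⟨g, ?_, hg⟩
    rw [mem_nonZeroDivisors_iff_ne_zero]
    rintro rfl
    have h3 : stalkIdeal I (I.subschemeι d) = ⊥ := by
      rw [hg]
      simp
    have h4 := ringKrullDim_stalk_of_discrete I.subscheme d
    rw [← ringKrullDim_eq_of_ringEquiv (stalkQuotEquiv I d), h3,
      ringKrullDim_eq_of_ringEquiv (RingEquiv.quotientBot _), h1] at h4
    exact one_ne_zero h4
  · have h := (notMem_support_iff_stalkIdeal_eq_top I x).1 hx
    unfold Eff
    rw [h]
    exact pn_top

end K888.EffFin
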